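import Groth.Agent.ResProp.EF.K140.UE
import Groth.Agent.ResProp.EF.K679.TwBC

/-!
# Twists commute with the evaluation on the chart (`S16912`, G6c, (I8), helper548)

`uE : (K742.GO s O).Coalgebra ⥤ (K496.GO R (R ⊗[k] O)).Coalgebra` (140).  For every endofunctor `tw` of
`(K742.GO s O).Coalgebra` whose underlying functor is `- ⊗_k W` and whose coaction on the chart is
`tm m w ↦ ∑ tm (tm m₀ w₀) (m₁ w₁)`: `tw ⋙ uE ≅ uE ⋙ twR (bcF R F)`.
-/

set_option autoImplicit false
set_option linter.dupNamespace false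
set_option linter.unusedSectionVars false

universe u

open CategoryTheory CategoryTheory.Limits Opposite TensorProduct

noncomputable section

namespace Groth.Agent.ResProp.EF.K548.Theta

open EF56 K741.RP K742 K140

section level

variable {k : Type u} [CommRing k] {R : Type u} [CommRing R] {κ : k →+* R}
  {O : Type u} [CommRing O] [Bialgebra k O] {W : Type u} [AddCommGroup W] [Module k W]
  {M : Type u} [AddCommGroup M] [Module R M]

/-- `w ⊗ b ↦ tm (tm m w) (a * b)` -/
def jn (κ : k →+* R) (m : M) (a : O) : W ⊗[k] O →+ TM κ (TM κ M W) O :=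
  TensorProduct.liftAddHom
    (AddMonoidHom.mk' (fun w => AddMonoidHom.mk' (fun b => TM.tm κ (TM.tm κ m w) (a * b)) fun b b' => by
      rw [mul_add, TM.tm_add_right]) fun w w' => by
        ext b
        change TM.tm κ (TM.tm κ m (w + w')) (a * b) =
          TM.tm κ (TM.tm κ m w) (a * b) + TM.tm κ (TM.tm κ m w') (a * b)
        rw [TM.tm_add_right, TM.tm_add_left])
    (fun c w b => by
      change TM.tm κ (TM.tm κ m (c • w)) (a * b) = TM.tm κ (TM.tm κ m w) (a * (c • b))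
      rw [← TM.k_smul_tm, TM.tm_k, mul_smul_comm])

@[simp] theorem jn_tmul (m : M) (a : O) (w : W) (b : O) :
    jn κ m a (w ⊗ₜ[k] b) = TM.tm κ (TM.tm κ m w) (a * b) := rfl

theorem jn_add_left (m m' : M) (a : O) (z : W ⊗[k] O) : jn κ (m + m') a z = jn κ m a z + jn κ m' a z := by
  induction z using TensorProduct.induction_on with
  | zero => rw [map_zero, map_zero, map_zero, add_zero]
  | add x y hx hy => rw [map_add, map_add, map_add, hx, hy, add_add_add_comm]
  | tmul w b => rw [jn_tmul, jn_tmul, jn_tmul, TM.tm_add_left, TM.tm_add_left]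

theorem jn_add_right (m : M) (a a' : O) (z : W ⊗[k] O) : jn κ m (a + a') z = jn κ m a z + jn κ m a' z := by
  induction z using TensorProduct.induction_on with
  | zero => rw [map_zero, map_zero, map_zero, add_zero]
  | add x y hx hy => rw [map_add, map_add, map_add, hx, hy, add_add_add_comm]
  | tmul w b => rw [jn_tmul, jn_tmul, jn_tmul, add_mul, TM.tm_add_right]

theorem jn_k (c : k) (m : M) (a : O) (z : W ⊗[k] O) : jn κ (κ c • m) a z = jn κ m (c • a) z := by
  induction z using TensorProduct.induction_on with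
  | zero => rw [map_zero, map_zero]
  | add x y hx hy => rw [map_add, map_add, hx, hy]
  | tmul w b => rw [jn_tmul, jn_tmul, ← TM.smul_tm, TM.tm_k, smul_mul_assoc]

/-- `(tm m a, w ⊗ b) ↦ tm (tm m w) (a * b)` -/
def bT (κ : k →+* R) (M : Type u) [AddCommGroup M] [Module R M] (O : Type u) [CommRing O] [Bialgebra k O]
    (W : Type u) [AddCommGroup W] [Module k W] : TM κ M O →+ W ⊗[k] O →+ TM κ (TM κ M W) O :=
  TM.lift κ
    (AddMonoidHom.mk' (fun m => AddMonoidHom.mk' (fun a => jn κ m a) fun a a' => by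
      ext z
      exact jn_add_right m a a' z) fun m m' => by
        ext a z
        exact jn_add_left m m' a z)
    (fun c m a => by
      ext z
      exact jn_k c m a z)

@[simp] theorem bT_tm (m : M) (a : O) (z : W ⊗[k] O) : bT κ M O W (TM.tm κ m a) z = jn κ m a z :=
  congrArg (fun f : W ⊗[k] O →+ TM κ (TM κ M W) O => f z) (TM.lift_tm κ _ _ m a)

theorem bT_tm_tmul (m : M) (a : O) (w : W) (b : O) :
    bT κ M O W (TM.tm κ m a) (w ⊗ₜ[k] b) = TM.tm κ (TM.tm κ m w) (a * b) := by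
  rw [bT_tm, jn_tmul]

variable [Algebra k R] (hκ : ∀ c : k, κ c = algebraMap k R c)

theorem jn_tb (m : M) (a : O) (z : W ⊗[k] O) :
    (tb W hκ M).toLinearMap.rTensor (R ⊗[k] O) (tb O hκ (TM κ M W) (jn κ m a z)) =
      K679.Tw.bb ((m ⊗ₜ[R] ((1 : R) ⊗ₜ[k] a)) ⊗ₜ[R] (AlgebraTensorModule.tensorTensorTensorComm k R k R R R W O
        (((1 : R) ⊗ₜ[R] (1 : R)) ⊗ₜ[k] z))) := by
  induction z using TensorProduct.induction_on with
  | zero => simp only [map_zero, TensorProduct.tmul_zero]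
  | add x y hx hy => simp only [map_add, TensorProduct.tmul_add, hx, hy]
  | tmul w b =>
    rw [jn_tmul, tb_tm, AlgebraTensorModule.tensorTensorTensorComm_tmul]
    erw [K679.Tw.bb_tmul]
    rw [LinearMap.rTensor_tmul, LinearEquiv.coe_coe, tb_tm, Algebra.TensorProduct.tmul_mul_tmul, one_mul]

theorem bcF_one (F : HopfRep.Comod k O W) (w : W) :
    (K679.TwBC.bcF R F).coact ((1 : R) ⊗ₜ[k] w) = AlgebraTensorModule.tensorTensorTensorComm k R k R R R W O
        (((1 : R) ⊗ₜ[R] (1 : R)) ⊗ₜ[k] F.coact w) := by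
  rw [CoactBr.baseChange_coact_tmul]

theorem bT_tb (F : HopfRep.Comod k O W) (y : TM κ M O) (w : W) :
    (tb W hκ M).toLinearMap.rTensor (R ⊗[k] O) (tb O hκ (TM κ M W) (bT κ M O W y (F.coact w))) =
      K679.Tw.bb (tb O hκ M y ⊗ₜ[R] (K679.TwBC.bcF R F).coact ((1 : R) ⊗ₜ[k] w)) := by
  induction y using TM.induction with
  | zero => simp only [map_zero, TensorProduct.zero_tmul, AddMonoidHom.zero_apply]
  | add x y hx hy => simp only [map_add, TensorProduct.add_tmul, AddMonoidHom.add_apply, hx, hy]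
  | tm m a => rw [bT_tm, jn_tb, tb_tm, bcF_one]

end level

section cat

variable {k : Type u} [CommRing k] {A : NFᵒᵖ ⥤ CommRingCat.{u}} (s : K742.KS k A)
  [Algebra k (A.obj (op (⟨0⟩ : NF)))] (hs : ∀ c : k, s.κ (op ⟨0⟩) c = algebraMap k (A.obj (op (⟨0⟩ : NF))) c)
  (O : Type u) [CommRing O] [Bialgebra k O] {W : Type u} [AddCommGroup W] [Module k W] (F : HopfRep.Comod k O W)

/-- the coaction of a coalgebra on the chart -/
def ca (M : (K742.GO s O).Coalgebra) :
    (vst A).obj M.A →ₗ[A.obj (op ⟨0⟩)] TM (s.κ (op ⟨0⟩)) ((vst A).obj M.A) O := ((vst A).map M.a).hom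

/-- `tw` is the twist by `F` : underlying functor `- ⊗_k W`, diagonal coaction on the chart -/
structure IsTw (tw : (K742.GO s O).Coalgebra ⥤ (K742.GO s O).Coalgebra) where
  e : tw ⋙ (K742.GO s O).forget ≅ (K742.GO s O).forget ⋙ K742.tensC s W
  he : ∀ (M : (K742.GO s O).Coalgebra) (m : (vst A).obj M.A) (w : W),
    ((vst A).map (e.inv.app M ≫ (tw.obj M).a ≫ (K742.GO s O).map (e.hom.app M))).hom
        (TM.tm (s.κ (op ⟨0⟩)) m w) =
      bT (s.κ (op ⟨0⟩)) ((vst A).obj M.A) O W (ca s O M m) (F.coact w)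

variable {s O F} {tw : (K742.GO s O).Coalgebra ⥤ (K742.GO s O).Coalgebra} (h : IsTw s O F tw)

/-- the underlying isomorphism -/
def thIso (M : (K742.GO s O).Coalgebra) : (vst A).obj (tw.obj M).A ≅
    ModuleCat.of (A.obj (op ⟨0⟩)) ((vst A).obj M.A ⊗[(A.obj (op (⟨0⟩ : NF)))] ((A.obj (op (⟨0⟩ : NF))) ⊗[k] W)) :=
  (vst A).mapIso (h.e.app M) ≪≫ tbIso s hs W M.A

theorem thIso_hom_apply (M : (K742.GO s O).Coalgebra) (v : (vst A).obj (tw.obj M).A) :
    (thIso hs h M).hom.hom v = tb W hs ((vst A).obj M.A) (((vst A).map (h.e.hom.app M)).hom v) := rfl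

theorem e_inv_hom (M : (K742.GO s O).Coalgebra) (v : (vst A).obj (tw.obj M).A) :
    ((vst A).map (h.e.inv.app M)).hom (((vst A).map (h.e.hom.app M)).hom v) = v := by
  have h1 : (vst A).map (h.e.hom.app M) ≫ (vst A).map (h.e.inv.app M) = 𝟙 _ := by
    rw [← (vst A).map_comp, h.e.hom_inv_id_app]
    exact (vst A).map_id _
  exact LinearMap.congr_fun (congrArg ModuleCat.Hom.hom h1) v

theorem e_hom_inv (M : (K742.GO s O).Coalgebra) (z : (vst A).obj ((K742.tensC s W).obj M.A)) :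
    ((vst A).map (h.e.hom.app M)).hom (((vst A).map (h.e.inv.app M)).hom z) = z := by
  have h1 : (vst A).map (h.e.inv.app M) ≫ (vst A).map (h.e.hom.app M) = 𝟙 _ := by
    rw [← (vst A).map_comp, h.e.inv_hom_id_app]
    exact (vst A).map_id _
  exact LinearMap.congr_fun (congrArg ModuleCat.Hom.hom h1) z

theorem compat_tm (M : (K742.GO s O).Coalgebra) (m : (vst A).obj M.A) (w : W) :
    ((thIso hs h M).hom.hom).rTensor ((A.obj (op (⟨0⟩ : NF))) ⊗[k] O)
        (tb O hs ((vst A).obj (tw.obj M).A) (((vst A).map (tw.obj M).a).hom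
          (((vst A).map (h.e.inv.app M)).hom (TM.tm (s.κ (op ⟨0⟩)) m w)))) =
      (ComodTens.Comod.tensor (K496.toComod ((uE s hs O).obj M)) (K679.TwBC.bcF (A.obj (op (⟨0⟩ : NF))) F)).coact
        (m ⊗ₜ ((1 : A.obj (op (⟨0⟩ : NF))) ⊗ₜ w)) := by
  rw [K679.Tw.tensor_coact]
  refine Eq.trans ?_ (bT_tb hs F (ca s O M m) w)
  rw [← h.he]
  have h1 : ((vst A).map (h.e.inv.app M ≫ (tw.obj M).a ≫ (K742.GO s O).map (h.e.hom.app M))).hom
      (TM.tm (s.κ (op ⟨0⟩)) m w) = TM.map (s.κ (op ⟨0⟩)) ((vst A).map (h.e.hom.app M)).hom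
        (LinearMap.id : O →ₗ[k] O) (((vst A).map (tw.obj M).a).hom
          (((vst A).map (h.e.inv.app M)).hom (TM.tm (s.κ (op ⟨0⟩)) m w))) := rfl
  have h2 := tb_nat O hs ((vst A).map (h.e.hom.app M)).hom (((vst A).map (tw.obj M).a).hom
          (((vst A).map (h.e.inv.app M)).hom (TM.tm (s.κ (op ⟨0⟩)) m w)))
  refine Eq.trans ?_ (congrArg (fun t => (tb W hs ((vst A).obj M.A)).toLinearMap.rTensor
    ((A.obj (op (⟨0⟩ : NF))) ⊗[k] O) t) ((congrArg (tb O hs _) h1).trans h2).symm)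
  exact LinearMap.congr_fun (LinearMap.rTensor_comp ((A.obj (op (⟨0⟩ : NF))) ⊗[k] O)
    (tb W hs ((vst A).obj M.A)).toLinearMap ((vst A).map (h.e.hom.app M)).hom) _

/-- the coaction of `uE (tw M)` is the tensor coaction -/
theorem compat (M : (K742.GO s O).Coalgebra) :
    (((uE s hs O).obj (tw.obj M)).a ≫
        (K496.GO (A.obj (op (⟨0⟩ : NF))) ((A.obj (op (⟨0⟩ : NF))) ⊗[k] O)).map (thIso hs h M).hom) =
      (thIso hs h M).hom ≫
        ((K679.TwR.twR (K679.TwBC.bcF (A.obj (op (⟨0⟩ : NF))) F)).obj ((uE s hs O).obj M)).a := by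
  apply ModuleCat.hom_ext
  apply LinearMap.ext
  intro v
  obtain ⟨z, rfl⟩ : ∃ z : (vst A).obj ((K742.tensC s W).obj M.A), v = ((vst A).map (h.e.inv.app M)).hom z :=
    ⟨_, (e_inv_hom h M v).symm⟩
  change ((thIso hs h M).hom.hom).rTensor ((A.obj (op (⟨0⟩ : NF))) ⊗[k] O)
        (tb O hs ((vst A).obj (tw.obj M).A) (((vst A).map (tw.obj M).a).hom
          (((vst A).map (h.e.inv.app M)).hom z))) =
      (ComodTens.Comod.tensor (K496.toComod ((uE s hs O).obj M)) (K679.TwBC.bcF (A.obj (op (⟨0⟩ : NF))) F)).coact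
        ((thIso hs h M).hom.hom (((vst A).map (h.e.inv.app M)).hom z))
  have hz : (((thIso hs h M).hom.hom).rTensor ((A.obj (op (⟨0⟩ : NF))) ⊗[k] O) ∘ₗ
        (tb O hs ((vst A).obj (tw.obj M).A)).toLinearMap ∘ₗ ((vst A).map (tw.obj M).a).hom ∘ₗ
          ((vst A).map (h.e.inv.app M)).hom : TM (s.κ (op ⟨0⟩)) ((vst A).obj M.A) W →ₗ[A.obj (op ⟨0⟩)] _) =
      (ComodTens.Comod.tensor (K496.toComod ((uE s hs O).obj M)) (K679.TwBC.bcF (A.obj (op (⟨0⟩ : NF))) F)).coact ∘ₗ
        (tb W hs ((vst A).obj M.A)).toLinearMap :=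
    TM.linearMap_ext _ fun m w => (compat_tm hs h M m w).trans (congrArg
      (ComodTens.Comod.tensor (K496.toComod ((uE s hs O).obj M))
        (K679.TwBC.bcF (A.obj (op (⟨0⟩ : NF))) F)).coact (tb_tm W hs _ m w).symm)
  refine (LinearMap.congr_fun hz z).trans ?_
  rw [thIso_hom_apply, e_hom_inv]
  rfl

/-- **Twists commute with the evaluation on the chart.** -/
def theta : tw ⋙ uE s hs O ≅ uE s hs O ⋙ K679.TwR.twR (K679.TwBC.bcF (A.obj (op (⟨0⟩ : NF))) F) :=
  NatIso.ofComponents (fun M => Comonad.Coalgebra.isoMk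
    (A := (tw ⋙ uE s hs O).obj M)
    (B := (uE s hs O ⋙ K679.TwR.twR (K679.TwBC.bcF (A.obj (op (⟨0⟩ : NF))) F)).obj M)
    (thIso hs h M) (compat hs h M)) fun {M N} f => by
      ext : 1
      apply ModuleCat.hom_ext
      apply LinearMap.ext
      intro v
      change tb W hs ((vst A).obj N.A) (((vst A).map (h.e.hom.app N)).hom (((vst A).map (tw.map f).f).hom v)) =
        (((vst A).map f.f).hom).rTensor ((A.obj (op (⟨0⟩ : NF))) ⊗[k] W)
          (tb W hs ((vst A).obj M.A) (((vst A).map (h.e.hom.app M)).hom v))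
      rw [← tb_nat]
      have h1 : (tw.map f).f ≫ h.e.hom.app N = h.e.hom.app M ≫ (K742.tensC s W).map f.f := h.e.hom.naturality f
      have h2 : (vst A).map (tw.map f).f ≫ (vst A).map (h.e.hom.app N) =
          (vst A).map (h.e.hom.app M) ≫ (vst A).map ((K742.tensC s W).map f.f) := by
        rw [← (vst A).map_comp, ← (vst A).map_comp, h1]
        rfl
      exact congrArg (tb W hs ((vst A).obj N.A)) (LinearMap.congr_fun (congrArg ModuleCat.Hom.hom h2) v)

theorem theta_hom_app_f (M : (K742.GO s O).Coalgebra) (v : (vst A).obj (tw.obj M).A) :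
    ((theta hs h).hom.app M).f.hom v = tb W hs ((vst A).obj M.A) (((vst A).map (h.e.hom.app M)).hom v) := rfl

end cat

end Groth.Agent.ResProp.EF.K548.Theta
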