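import Groth.Agent.ResProp.EF.K548.Theta
import Groth.Agent.ResProp.EF.K118.TwC

/-!
# (I8): `K118.TwC.tw s F ⋙ uE ≅ uE ⋙ twR (bcF R F)` (`S16912`, G6c, helper548)
-/

set_option autoImplicit false
set_option linter.dupNamespace false

universe u

open CategoryTheory CategoryTheory.Limits Opposite TensorProduct

noncomputable section

namespace Groth.Agent.ResProp.EF.K548.Theta

open EF56 K741.RP K742 K140

theorem Q_eq {k : Type u} [CommRing k] {R : Type u} [CommRing R] {κ : k →+* R}
    {O : Type u} [CommRing O] [Bialgebra k O] {W : Type u} [AddCommGroup W] [Module k W]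
    {M : Type u} [AddCommGroup M] [Module R M] (x : TM κ M O) (z : W ⊗[k] O) :
    K118.TwC.Q κ x z = bT κ M O W x z := by
  induction x using TM.induction with
  | zero => rw [map_zero, map_zero]
  | add x y hx hy => rw [map_add, map_add, AddMonoidHom.add_apply, AddMonoidHom.add_apply, hx, hy]
  | tm m a =>
    rw [K118.TwC.Q_tm, bT_tm]
    induction z using TensorProduct.induction_on with
    | zero => rw [map_zero, map_zero, map_zero]
    | add x y hx hy => rw [map_add, map_add, map_add, hx, hy]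
    | tmul w b => rfl

variable {k : Type u} [CommRing k] {A : NFᵒᵖ ⥤ CommRingCat.{u}} (s : K742.KS k A)
  [Algebra k (A.obj (op (⟨0⟩ : NF)))] (hs : ∀ c : k, s.κ (op ⟨0⟩) c = algebraMap k (A.obj (op (⟨0⟩ : NF))) c)
  (O : Type u) [CommRing O] [Bialgebra k O] {W : Type u} [AddCommGroup W] [Module k W] (F : HopfRep.Comod k O W)

/-- 118's twist is the twist by `F` -/
def isTw : IsTw s O F (K118.TwC.tw s F) where
  e := Iso.refl _
  he M m w := by
    have h0 : (Iso.refl (K118.TwC.tw s F ⋙ (GO s O).forget)).inv.app M ≫ ((K118.TwC.tw s F).obj M).a ≫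
        (K742.GO s O).map ((Iso.refl (K118.TwC.tw s F ⋙ (GO s O).forget)).hom.app M) =
        ((K118.TwC.tw s F).obj M).a := by
      change 𝟙 _ ≫ ((K118.TwC.tw s F).obj M).a ≫ (K742.GO s O).map (𝟙 _) = _
      rw [Category.id_comp]
      refine Eq.trans (congrArg (fun t => ((K118.TwC.tw s F).obj M).a ≫ t) ((K742.GO s O).map_id _)) ?_
      exact Category.comp_id _
    have h1 := congrArg (fun t => ModuleCat.Hom.hom ((vst A).map t)) h0
    refine (LinearMap.congr_fun h1 (TM.tm (s.κ (op ⟨0⟩)) m w)).trans ?_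
    have h2 : ((vst A).map ((K118.TwC.tw s F).obj M).a).hom (TM.tm (s.κ (op ⟨0⟩)) m w) =
        K118.TwC.str (s.κ (op ⟨0⟩)) ((vst A).obj M.A) F (TM.map (s.κ (op ⟨0⟩)) (ca s O M)
          (LinearMap.id : W →ₗ[k] W) (TM.tm (s.κ (op ⟨0⟩)) m w)) := rfl
    refine h2.trans ?_
    rw [TM.map_tm, K118.TwC.str_tm, Q_eq]
    rfl

/-- **(I8)**: the twist by `F` on `(Γ, O)`-comodules becomes the twist by `R ⊗_k F` on the chart -/
def thetaTw : K118.TwC.tw s F ⋙ uE s hs O ≅
    uE s hs O ⋙ K679.TwR.twR (K679.TwBC.bcF (A.obj (op (⟨0⟩ : NF))) F) :=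
  theta hs (isTw s O F)

theorem thetaTw_hom_app_f (M : (K742.GO s O).Coalgebra) (v : (vst A).obj ((K118.TwC.tw s F).obj M).A) :
    ((thetaTw s hs O F).hom.app M).f.hom v = tb W hs ((vst A).obj M.A) v := by
  refine (theta_hom_app_f hs (isTw s O F) M v).trans ?_
  have : ((vst A).map ((isTw s O F).e.hom.app M)).hom v = v := by
    have h : (vst A).map ((isTw s O F).e.hom.app M) = 𝟙 _ := (vst A).map_id _
    rw [h]
    rfl
  rw [this]

end Groth.Agent.ResProp.EF.K548.Theta
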